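import Groth.Agent.CurveKummer.HTwo
import Groth.Agent.GrLib8.PicH1.Etale
import Groth.Agent.GmH1Lib.Zar

/-!
# The first Kummer cohomology of a curve
-/

set_option autoImplicit false
universe u

open CategoryTheory CategoryTheory.Limits AlgebraicGeometry Opposite CategoryTheory.Abelian

namespace Groth.Agent.CurveKummer

open Groth.Agent.EtTrace Groth.Agent.GmH1Lib

set_option backward.isDefEq.respectTransparency false
set_option backward.isDefEq.respectTransparency.types false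

variable {X : Scheme.{u}}

theorem exists_nsmul_H_zero (n : ℕ) (h : ∀ u : Γ(X, ⊤)ˣ, ∃ v : Γ(X, ⊤)ˣ, v ^ n = u)
    (y : EtCoh.H X (EtCoh.Gm X) 0) : ∃ z, n • z = y := by
  let e : EtCoh.H X (EtCoh.Gm X) 0 ≃+ (EtCoh.Gm X).obj.obj (op (ZO (⊤ : X.Opens))) :=
    Sheaf.H.equiv₀ (EtCoh.Gm X) (GrLib8.PicH1.topZOIsTerminal X)
  obtain ⟨v, hv⟩ := h (uval (e y))
  refine ⟨e.symm (umk v), ?_⟩
  have hu : ∀ m : ℕ, (umk (v ^ m) : (EtCoh.Gm X).obj.obj (op (ZO (⊤ : X.Opens)))) = m • umk v := fun m => by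
    induction m with
    | zero =>
      rw [pow_zero, zero_nsmul]
      have h1 := umk_mul (V := (⊤ : X.Opens)) (1 : Γ(X, ⊤)ˣ) 1
      rw [mul_one] at h1
      exact left_eq_add.1 h1
    | succ m ih => rw [pow_succ, succ_nsmul, umk_mul, ih]
  rw [← map_nsmul, ← hu, hv, umk_uval, e.symm_apply_apply]

theorem exists_mu_one_hom [CompactSpace X] [QuasiSeparatedSpace X] [PicGrp.Law X] {n : ℕ}
    [Epi (EtCoh.powMap X n)] (h : ∀ u : Γ(X, ⊤)ˣ, ∃ v : Γ(X, ⊤)ˣ, v ^ n = u) :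
    ∃ g : EtCoh.H X (EtCoh.mu X n) 1 →+ Additive (PicLoc.PicSet X), Function.Injective g ∧
      ∀ x, (∃ z, g z = x) ↔ n • x = 0 := by
  obtain ⟨φ⟩ := S15401.result X
  let S := ShortComplex.mk (EtCoh.muι X n) (EtCoh.powMap X n) (kernel.condition _)
  have hS : S.ShortExact :=
    { exact := ShortComplex.exact_of_f_is_kernel _ (kernelIsKernel _)
      mono_f := inferInstanceAs (Mono (kernel.ι _))
      epi_g := ‹_› }
  let g : EtCoh.H X (EtCoh.mu X n) 1 →+ EtCoh.H X (EtCoh.Gm X) 1 :=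
    AddMonoidHom.mk' (fun z => Ext.comp z (Ext.mk₀ S.f) (add_zero 1)) fun a b => Ext.add_comp a b _ _
  refine ⟨φ.symm.toAddMonoidHom.comp g, φ.symm.injective.comp ((injective_iff_map_eq_zero g).2 fun z hz => ?_),
    fun x => ?_⟩
  · obtain ⟨y, hy⟩ := Ext.covariant_sequence_exact₁ _ hS z hz (rfl : 0 + 1 = 1)
    obtain ⟨y', rfl⟩ := exists_nsmul_H_zero n h y
    have key : n • y' = Ext.comp y' (Ext.mk₀ S.g) (add_zero 0) := nsmul_eq_comp y' n
    rw [← hy, key, Ext.comp_assoc_of_second_deg_zero, hS.comp_extClass, Ext.comp_zero]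
  · have hr := range_mu (X := X) (n := n) 1 (φ x)
    constructor
    · rintro ⟨z, hz⟩
      apply φ.injective
      rw [map_nsmul, map_zero]
      refine hr.1 ⟨z, ?_⟩
      rw [← hz]
      exact (φ.apply_symm_apply (g z)).symm
    · intro hx
      obtain ⟨z, hz⟩ := hr.2 (by rw [← map_nsmul, hx, map_zero])
      exact ⟨z, φ.injective ((φ.apply_symm_apply (g z)).trans hz)⟩

end Groth.Agent.CurveKummer
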