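import Groth.Agent.Curve11.GmCoh
import Groth.Agent.EtLC12.MuConst
import Groth.Agent.EtTrace.Kummer
import Groth.Agent.S15401

/-!
# The top Kummer cohomology of a curve
-/

set_option autoImplicit false
universe u

open CategoryTheory CategoryTheory.Limits AlgebraicGeometry Opposite CategoryTheory.Abelian

namespace Groth.Agent.CurveKummer

open Groth.Agent.EtTrace

set_option backward.isDefEq.respectTransparency false
set_option backward.isDefEq.respectTransparency.types false

theorem nonempty_addEquiv_of_ker_eq {A B C : Type*} [AddCommGroup A] [AddCommGroup B] [AddCommGroup C]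
    (h : A →+ B) (g : A →+ C) (hh : Function.Surjective h) (hg : Function.Surjective g)
    (he : h.ker = g.ker) : Nonempty (B ≃+ C) :=
  ⟨((QuotientAddGroup.quotientKerEquivOfSurjective h hh).symm.trans
    (QuotientAddGroup.quotientAddEquivOfEq he)).trans (QuotientAddGroup.quotientKerEquivOfSurjective g hg)⟩

/-- If `H²(X, Gm) = 0` then `H²(X, μ_n)` is `Pic X / n`. -/
theorem nonempty_H_mu_two {X : Scheme.{u}} [CompactSpace X] [QuasiSeparatedSpace X] [PicGrp.Law X] {n : ℕ}
    [Epi (EtCoh.powMap X n)] (h2 : Subsingleton (EtCoh.H X (EtCoh.Gm X) 2))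
    {C : Type*} [AddCommGroup C] (ψ : Additive (PicLoc.PicSet X) →+ C) (hs : Function.Surjective ψ)
    (hk : ∀ x, ψ x = 0 ↔ ∃ y, n • y = x) :
    Nonempty (EtCoh.H X (EtCoh.mu X n) 2 ≃+ C) := by
  obtain ⟨φ⟩ := S15401.result X
  let S := ShortComplex.mk (EtCoh.muι X n) (EtCoh.powMap X n) (kernel.condition _)
  have hS : S.ShortExact :=
    { exact := ShortComplex.exact_of_f_is_kernel _ (kernelIsKernel _)
      mono_f := inferInstanceAs (Mono (kernel.ι _))
      epi_g := ‹_› }
  let δ : EtCoh.H X (EtCoh.Gm X) 1 →+ EtCoh.H X (EtCoh.mu X n) 2 :=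
    AddMonoidHom.mk' (fun y => Ext.comp y hS.extClass (rfl : 1 + 1 = 2)) fun a b => Ext.add_comp a b _ _
  have key : ∀ y : EtCoh.H X (EtCoh.Gm X) 1, n • y = Ext.comp y (Ext.mk₀ S.g) (add_zero 1) := fun y =>
    nsmul_eq_comp y n
  refine nonempty_addEquiv_of_ker_eq δ (ψ.comp φ.symm.toAddMonoidHom) (fun x => ?_)
    (hs.comp φ.symm.surjective) (AddSubgroup.ext fun y => ?_)
  · exact Ext.covariant_sequence_exact₁ _ hS x (Subsingleton.elim (α := EtCoh.H X (EtCoh.Gm X) 2) _ _) (rfl : 1 + 1 = 2)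
  · simp only [AddMonoidHom.mem_ker]
    show δ y = 0 ↔ ψ (φ.symm y) = 0
    rw [hk]
    constructor
    · intro h
      obtain ⟨z, hz⟩ := Ext.covariant_sequence_exact₃ _ hS y (rfl : 1 + 1 = 2) h
      refine ⟨φ.symm z, ?_⟩
      rw [← map_nsmul, key z]
      exact congrArg φ.symm hz
    · rintro ⟨z, hz⟩
      have hy : y = n • φ z := by rw [← map_nsmul, hz, φ.apply_symm_apply]
      rw [hy, key]
      show Ext.comp (Ext.comp (φ z) (Ext.mk₀ S.g) (add_zero 1)) hS.extClass (rfl : 1 + 1 = 2) = 0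
      rw [Ext.comp_assoc_of_second_deg_zero, hS.comp_extClass, Ext.comp_zero]

end Groth.Agent.CurveKummer
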