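import Groth.Agent.PicCurve.TorsCard

/-!
# The Picard group of a curve modulo `n`
-/

set_option autoImplicit false
set_option linter.style.haveILetI false
set_option linter.unusedSectionVars false
set_option backward.isDefEq.respectTransparency false
set_option backward.isDefEq.respectTransparency.types false
set_option maxHeartbeats 1000000
set_option synthInstance.maxHeartbeats 400000

universe u

open CategoryTheory CategoryTheory.Limits AlgebraicGeometry TopologicalSpace MonoidalCategory CartesianMonoidalCategory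

open scoped CategoryTheory.MonObj

noncomputable section

namespace Groth.Agent.CurveKummer

open Groth.Agent Groth.Agent.H23 Groth.Agent.H23.PicMul Groth.Agent.H26 Groth.Agent.Pic13Lib
  Groth.Agent.PicTangent Groth.Agent.PicTangent.JacDiff Groth.Agent.EllLaw Groth.Agent.PicCurve
open scoped Groth.Agent.H23.PicMul

attribute [local instance] PicMul.clMonoid

variable {k : Type u} [Field k] [IsAlgClosed k] {X : Scheme.{u}}
  (f : X ⟶ Spec (CommRingCat.of k)) [IsProper f] [SmoothOfRelativeDimension 1 f] [GeometricallyConnected f]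
  (σ : Spec (CommRingCat.of k) ⟶ X) (hσ : σ ≫ f = 𝟙 _)

/-- The degree of a class on the curve. -/
def degX (c : PicF.Cl X) : ℤ :=
  degAt f (AVTors.pt0 k) (PicF.pullCl (pullback.fst f (AVTors.pt0 k).hom) c) (IsLocalRing.closedPoint k)

theorem degX_mul {c c' : PicF.Cl X} (hc : PicF.IsInvertibleCl c) (hc' : PicF.IsInvertibleCl c') :
    degX f (c * c') = degX f c + degX f c' := by
  rw [degX, degX, degX, PicMul.pullCl_mul]
  exact degAt_mul f (PicClLib.isInvertibleCl_pullCl _ hc) (PicClLib.isInvertibleCl_pullCl _ hc') _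

include σ hσ in
theorem exists_degX_one : ∃ c : PicF.Cl X, PicF.IsInvertibleCl c ∧ degX f c = 1 := by
  let B := AVTors.pt0 k
  let p : PicF.XT f B ⟶ X := pullback.fst f B.hom
  haveI : IsIso p := inferInstanceAs (IsIso (pullback.fst f (𝟙 (Spec (CommRingCat.of k)))))
  let a : B ⟶ Over.mk f := Over.homMk σ hσ
  refine ⟨PicF.pullCl (inv p) (ptInv f B a), PicClLib.isInvertibleCl_pullCl _ (ptInv_invertible f B a), ?_⟩
  show degAt f B (PicF.pullCl p (PicF.pullCl (inv p) (ptInv f B a))) _ = 1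
  rw [PicClLib.pullCl_comp, IsIso.hom_inv_id, PicClLib.pullCl_id]
  exact degAt_ptInv f a _

include σ hσ in
/-- Classes of degree zero are divisible. -/
theorem exists_root_of_degX_eq_zero (n : ℕ) (hn : 0 < n) {c : PicF.Cl X} (hc : PicF.IsInvertibleCl c)
    (h0 : degX f c = 0) : ∃ d : PicF.Cl X, PicF.IsInvertibleCl d ∧ d ^ n = c := by
  obtain ⟨J, ξ, h₁, h₂, h₃, h₄, h₅⟩ := exists_jacobian f σ hσ
  have hu : IsUniv0 f σ hσ ξ := ⟨h₄, h₅⟩
  haveI : GeometricallyIntegral J.hom := geometricallyIntegral_of_smooth J.hom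
  letI := jacGrpObj f σ hσ ξ hu
  have hm := isMulClass_jac f σ hσ ξ hu
  haveI := isCommMonObj f σ hσ hm hu
  let B := AVTors.pt0 k
  let p : PicF.XT f B ⟶ X := pullback.fst f B.hom
  haveI : IsIso p := inferInstanceAs (IsIso (pullback.fst f (𝟙 (Spec (CommRingCat.of k)))))
  have hd : PicF.IsInvertibleCl (PicF.pullCl p c) := PicClLib.isInvertibleCl_pullCl _ hc
  let c' : PicF.Rig f σ hσ B := ⟨PicF.pullCl p c, hd,
    JacPoint.eq_structure_of_isLocalRing (R := k) (PicClLib.isInvertibleCl_pullCl _ hd)⟩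
  haveI : Subsingleton B.left := inferInstanceAs (Subsingleton (PrimeSpectrum k))
  have hd0 : ∀ t, degAt f B c'.1 t = 0 := fun t => by
    rw [Subsingleton.elim t (IsLocalRing.closedPoint k)]
    exact h0
  obtain ⟨g, hg, -⟩ := hu.2 B c' ((hasFibreDegreeZeroCl_iff f c'.2.1).2 hd0)
  obtain ⟨b, hb⟩ := AVTors.exists_root (A := J) n hn g
  refine ⟨PicF.pullCl (inv p) (cls f σ hσ ξ b), PicClLib.isInvertibleCl_pullCl _ (cls_invertible f σ hσ ξ b), ?_⟩
  have e1 : cls f σ hσ ξ b ^ n = cls f σ hσ ξ g := by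
    rw [← hb]
    exact (map_pow (clsHom f σ hσ hm B) b n).symm
  have e2 : cls f σ hσ ξ g = PicF.pullCl p c := hg
  rw [← PicMul.pullCl_pow, e1, e2, PicClLib.pullCl_comp, IsIso.inv_hom_id, PicClLib.pullCl_id]

include σ hσ in
/-- `Pic X / n ≅ ℤ/n`, in the form of a surjection with kernel the multiples of `n`. -/
theorem exists_pic_modN [PicGrp.Law X] (n : ℕ) (hn : 0 < n) :
    ∃ ψ : Additive (PicLoc.PicSet X) →+ ZMod n, Function.Surjective ψ ∧
      ∀ x, ψ x = 0 ↔ ∃ y, n • y = x := by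
  let d : Additive (PicLoc.PicSet X) →+ ℤ := AddMonoidHom.mk' (fun x => degX f x.toMul.1) fun x y => by
    show degX f (x.toMul * y.toMul).1 = _
    rw [PicGrp.Law.mul_val]
    exact degX_mul f x.toMul.2 y.toMul.2
  obtain ⟨c₁, hc₁, h1⟩ := exists_degX_one f σ hσ
  let e : Additive (PicLoc.PicSet X) := Additive.ofMul ⟨c₁, hc₁⟩
  have he : d e = 1 := h1
  refine ⟨(Int.castAddHom (ZMod n)).comp d, fun z => ?_, fun x => ⟨fun h => ?_, ?_⟩⟩
  · obtain ⟨m, rfl⟩ := ZMod.intCast_surjective z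
    exact ⟨m • e, by simp [map_zsmul, he]⟩
  · obtain ⟨m, hm⟩ := (ZMod.intCast_zmod_eq_zero_iff_dvd (d x) n).1 h
    have h0 : d (x - ((n : ℤ) * m) • e) = 0 := by rw [map_sub, map_zsmul, he, hm]; simp
    obtain ⟨c, hc, hcn⟩ := exists_root_of_degX_eq_zero f σ hσ n hn (x - ((n : ℤ) * m) • e).toMul.2 h0
    have hpow : ∀ (a : PicLoc.PicSet X) (j : ℕ), (a ^ j).1 = a.1 ^ j := fun a j => by
      induction j with
      | zero => rw [pow_zero, pow_zero]; exact congrArg Subtype.val PicGrp.Law.one_eq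
      | succ j ih => rw [pow_succ, pow_succ, PicGrp.Law.mul_val, ih]; rfl
    let q : Additive (PicLoc.PicSet X) := Additive.ofMul ⟨c, hc⟩
    have h2 : n • q = x - ((n : ℤ) * m) • e :=
      Subtype.ext ((hpow ⟨c, hc⟩ n).trans hcn)
    refine ⟨q + m • e, ?_⟩
    rw [nsmul_add, h2, ← natCast_zsmul (m • e) n, smul_smul, sub_add_cancel]
  · rintro ⟨y, rfl⟩
    rw [map_nsmul, nsmul_eq_mul, ZMod.natCast_self, zero_mul]

end Groth.Agent.CurveKummer
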